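import Mathlib
import Groth.Agent.SmoothRed.Basic

/-!
# Global sections of a smooth proper scheme over a field are separable over the field
-/

set_option autoImplicit false
universe u

open CategoryTheory AlgebraicGeometry Polynomial
open scoped TensorProduct

namespace Groth.Agent.SmProper

/-- A derivation evaluated on a polynomial expression. -/
theorem der_eval₂ {k A M : Type*} [CommRing k] [CommRing A] [AddCommGroup M] [Module A M]
    (ψ : k →+* A) (D : A →+ M) (hmul : ∀ a b, D (a * b) = a • D b + b • D a)
    (hc : ∀ c, D (ψ c) = 0) (s : A) (P : k[X]) :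
    D (P.eval₂ ψ s) = (derivative P).eval₂ ψ s • D s := by
  have hpow : ∀ n : ℕ, D (s ^ (n + 1)) = ((n + 1 : ℕ) : A) • s ^ n • D s := by
    intro n
    induction n with
    | zero => simp
    | succ n ih =>
      rw [pow_succ, hmul, ih, Nat.cast_succ (n + 1), add_smul, one_smul, smul_smul, smul_smul, smul_smul,
        pow_succ, add_comm]
      congr 2
      ring
  induction P using Polynomial.induction_on' with
  | add p q hp hq => rw [eval₂_add, map_add, hp, hq, map_add, eval₂_add, add_smul]
  | monomial n c =>
    rw [eval₂_monomial, hmul, hc, smul_zero, add_zero, derivative_monomial, eval₂_monomial]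
    cases n with
    | zero =>
      have h1 : D 1 = 0 := by
        have := hmul 1 1
        rwa [one_mul, one_smul, left_eq_add] at this
      simp [h1]
    | succ n =>
      rw [hpow, map_mul, map_natCast, Nat.add_sub_cancel, smul_smul, smul_smul, mul_assoc]

/-- The sections of a smooth scheme over a field stay reduced after tensoring with the algebraic closure. -/
theorem isReduced_tensor_sections (k : Type u) [Field k] (X : Scheme.{u}) (f : X ⟶ Spec (CommRingCat.of k))
    [Smooth f] [CompactSpace X] :
    letI := ((Scheme.ΓSpecIso (CommRingCat.of k)).inv ≫ f.appTop).hom.toAlgebra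
    IsReduced (AlgebraicClosure k ⊗[k] Γ(X, ⊤)) := by
  letI := ((Scheme.ΓSpecIso (CommRingCat.of k)).inv ≫ f.appTop).hom.toAlgebra
  let 𝒰 := X.affineCover.finiteSubcover
  let U : 𝒰.I₀ → X.Opens := fun i => (𝒰.f i).opensRange
  have hU : ∀ i, IsAffineOpen (U i) := fun i => isAffineOpen_opensRange _
  let ρ : ∀ i, k →+* Γ(X, U i) := fun i =>
    ((Scheme.ΓSpecIso (CommRingCat.of k)).inv ≫ f.appTop ≫ X.presheaf.map (homOfLE le_top).op).hom
  letI alg : ∀ i, Algebra k Γ(X, U i) := fun i => (ρ i).toAlgebra
  let res : Γ(X, ⊤) →ₐ[k] (∀ i, Γ(X, U i)) :=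
    { toRingHom := Pi.ringHom fun i => (X.presheaf.map (homOfLE (le_top : U i ≤ ⊤)).op).hom
      commutes' := fun c => by funext i; rfl }
  have hres : Function.Injective res := by
    intro a b hab
    refine X.sheaf.eq_of_locally_eq' U ⊤ (fun i => homOfLE le_top) ?_ a b fun i => congrFun hab i
    intro x _
    obtain ⟨i, y, hy⟩ := 𝒰.exists_eq x
    exact TopologicalSpace.Opens.mem_iSup.mpr ⟨i, y, hy⟩
  have hsm : ∀ i, Algebra.Smooth k Γ(X, U i) := by
    intro i
    have h1 : (f.appLE ⊤ (U i) le_top).hom.Smooth :=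
      HasRingHomProperty.appLE @Smooth f inferInstance ⟨⊤, isAffineOpen_top _⟩ ⟨U i, hU i⟩ le_top
    have h2 : (ρ i).Smooth := by
      have := (RingHom.Smooth.respectsIso).2 (f.appLE ⊤ (U i) le_top).hom
        (Scheme.ΓSpecIso (CommRingCat.of k)).symm.commRingCatIsoToRingEquiv h1
      exact this
    exact h2
  haveI : ∀ i, IsReduced (AlgebraicClosure k ⊗[k] Γ(X, U i)) := fun i => by
    haveI := hsm i
    exact SmoothRed.isReduced_of_field (AlgebraicClosure k) _
  classical
  exact isReduced_of_injective
    (((Algebra.TensorProduct.piRight k k (AlgebraicClosure k) fun i => Γ(X, U i)).toAlgHom).comp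
      (Algebra.TensorProduct.map (AlgHom.id k (AlgebraicClosure k)) res))
    ((Algebra.TensorProduct.piRight k k (AlgebraicClosure k) fun i => Γ(X, U i)).injective.comp
      (Module.Flat.lTensor_preserves_injective_linearMap res.toLinearMap hres))

/-- An element of an algebra whose base change to the algebraic closure is reduced has separable minimal
polynomial. -/
theorem separable_minpoly {k A : Type u} [Field k] [CommRing A] [Algebra k A]
    [IsReduced (AlgebraicClosure k ⊗[k] A)] {s : A} (hs : IsIntegral k s) : (minpoly k s).Separable := by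
  let m := minpoly k s
  let φ : AdjoinRoot m →ₐ[k] A := AdjoinRoot.liftAlgHom m (Algebra.ofId k A) s (minpoly.aeval k s)
  have hφ : Function.Injective φ := by
    refine (injective_iff_map_eq_zero φ).mpr fun x hx => ?_
    obtain ⟨P, rfl⟩ := AdjoinRoot.mk_surjective x
    rw [AdjoinRoot.mk_eq_zero]
    refine minpoly.dvd k s ?_
    rw [← hx]
    simp [φ, Polynomial.aeval_def]
  let K := AlgebraicClosure k
  haveI : IsReduced (K ⊗[k] AdjoinRoot m) :=
    isReduced_of_injective (Algebra.TensorProduct.map (AlgHom.id k K) φ)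
      (Module.Flat.lTensor_preserves_injective_linearMap φ.toLinearMap hφ)
  let q : (K ⊗[k] k)[X] := m.map Algebra.TensorProduct.includeRight.toRingHom
  let e₁ : K ⊗[k] AdjoinRoot m ≃ₐ[K] AdjoinRoot q := AdjoinRoot.tensorAlgEquiv (R := k) (T := K) m q rfl
  let e₂ : AdjoinRoot q ≃+* AdjoinRoot (m.map (algebraMap k K)) :=
    AdjoinRoot.mapRingEquiv (Algebra.TensorProduct.rid k K K).toRingEquiv _ _ (Associated.of_eq (by
      rw [Polynomial.map_map]
      congr 1
      ext c
      simp [Algebra.smul_def]))
  let e : AdjoinRoot (m.map (algebraMap k K)) ≃+* K ⊗[k] AdjoinRoot m := e₂.symm.trans e₁.symm.toRingEquiv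
  haveI : IsReduced (AdjoinRoot (m.map (algebraMap k K))) := isReduced_of_injective e e.injective
  have hm0 : m.map (algebraMap k K) ≠ 0 := Polynomial.map_ne_zero (minpoly.ne_zero hs)
  rw [← separable_map (algebraMap k K), PerfectField.separable_iff_squarefree]
  refine (isRadical_iff_squarefree_of_ne_zero hm0).mp ?_
  refine isRadical_iff_span_singleton.mpr ?_
  exact (Ideal.isRadical_iff_quotient_reduced _).mpr this

/-- Global functions on a smooth proper scheme over a field are killed by every derivation which kills the field. -/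
theorem der_eq_zero (k : Type u) [Field k] (X : Scheme.{u}) (f : X ⟶ Spec (CommRingCat.of k))
    [IsProper f] [Smooth f] {M : Type u} [AddCommGroup M] [Module Γ(X, ⊤) M]
    (D : Γ(X, ⊤) →+ M) (hmul : ∀ a b, D (a * b) = a • D b + b • D a)
    (hc : ∀ c, D (f.appTop c) = 0) (s : Γ(X, ⊤)) : D s = 0 := by
  haveI : CompactSpace X := (quasiCompact_iff_compactSpace f).mp inferInstance
  letI := ((Scheme.ΓSpecIso (CommRingCat.of k)).inv ≫ f.appTop).hom.toAlgebra
  haveI := isReduced_tensor_sections k X f
  have hi : IsIntegral k s := by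
    have h1 : ((Scheme.ΓSpecIso (CommRingCat.of k)).inv ≫ f.appTop).hom.IsIntegral :=
      RingHom.isIntegral_respectsIso.2 (e := (Scheme.ΓSpecIso (CommRingCat.of k)).symm.commRingCatIsoToRingEquiv)
        (f := f.appTop.hom) (isIntegral_appTop_of_universallyClosed f)
    exact h1 s
  obtain ⟨a, b, hab⟩ := separable_minpoly hi
  have h0 := der_eval₂ (algebraMap k Γ(X, ⊤)) D hmul (fun c => hc _) s (minpoly k s)
  rw [show (minpoly k s).eval₂ (algebraMap k Γ(X, ⊤)) s = 0 from minpoly.aeval k s, map_zero] at h0
  have h1 : b.eval₂ (algebraMap k Γ(X, ⊤)) s * (derivative (minpoly k s)).eval₂ (algebraMap k Γ(X, ⊤)) s = 1 := by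
    have := congrArg (Polynomial.eval₂ (algebraMap k Γ(X, ⊤)) s) hab
    rwa [eval₂_add, eval₂_mul, eval₂_mul,
      show (minpoly k s).eval₂ (algebraMap k Γ(X, ⊤)) s = 0 from minpoly.aeval k s, mul_zero, zero_add,
      eval₂_one] at this
  rw [← one_smul Γ(X, ⊤) (D s), ← h1, mul_smul, ← h0, smul_zero]

end Groth.Agent.SmProper
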